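import Groth.Agent.AlgSpFT.Local
import Groth.Agent.AlgSpQC.PushQcqs
import Groth.Agent.AlgSpQC.CohExtBase
import Groth.Agent.AlgSpQC.SubMod
import Mathlib.LinearAlgebra.TensorProduct.Pi

/-! Exactness of Čech complexes of quasi-coherent modules for finite affine covers of affines. -/

set_option autoImplicit false
set_option linter.style.haveILetI false
set_option linter.unusedSectionVars false
set_option backward.isDefEq.respectTransparency false
set_option backward.isDefEq.respectTransparency.types false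
set_option maxHeartbeats 800000

universe u

open CategoryTheory Limits AlgebraicGeometry Opposite TensorProduct
open Groth.Agent.AlgSpQC Groth.Agent.AlgSpFT

noncomputable section

namespace Groth.Agent.AlgSpVan

variable {S : Scheme.{u}} {X : AlgSp.Sp S}

theorem resS_sum (M : AlgSp.ModEt X) {E E' : AlgSp.EtOver X} (g : E' ⟶ E) {κ : Type*} (s : Finset κ) (y : κ → Sec M E) :
    resS M g (∑ i ∈ s, y i) = ∑ i ∈ s, resS M g (y i) := map_sum (M.val.presheaf.map g.op).hom y s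

theorem resS_zsmul (M : AlgSp.ModEt X) {E E' : AlgSp.EtOver X} (g : E' ⟶ E) (c : ℤ) (y : Sec M E) :
    resS M g (c • y) = c • resS M g y := map_zsmul (M.val.presheaf.map g.op).hom c y

theorem rh_comp {A B C : AlgSp.EtOver X} (g : C ⟶ B) (f : B ⟶ A) (r : (AlgSp.OEt X).obj.obj (op A)) :
    rh (AlgSp.OEt X).obj (g ≫ f) r = rh (AlgSp.OEt X).obj g (rh (AlgSp.OEt X).obj f r) :=
  ConcreteCategory.congr_hom ((AlgSp.OEt X).obj.map_comp f.op g.op) r

/-- Iterated affine fibre products of a family over an object, with their universal property among affines. -/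
structure Tup (U : AlgSp.EtOver X) {κ : Type (u + 1)} (Z : κ → AlgSp.EtOver X) (f : ∀ i, Z i ⟶ U) where
  /-- the fibre product of a tuple -/
  P : ∀ {n : ℕ}, (Fin (n + 1) → κ) → AlgSp.EtOver X
  aff : ∀ {n : ℕ} (a : Fin (n + 1) → κ), Aff X (P a)
  /-- the projections -/
  pr : ∀ {n : ℕ} (a : Fin (n + 1) → κ) (k : Fin (n + 1)), P a ⟶ Z (a k)
  /-- the map to the base -/
  base : ∀ {n : ℕ} (a : Fin (n + 1) → κ), P a ⟶ U
  comm : ∀ {n : ℕ} (a : Fin (n + 1) → κ) (k : Fin (n + 1)), pr a k ≫ f (a k) = base a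
  hom_ext : ∀ {n : ℕ} (a : Fin (n + 1) → κ) {T : AlgSp.EtOver X} (_ : Aff X T) (g g' : T ⟶ P a),
    (∀ k, g ≫ pr a k = g' ≫ pr a k) → g = g'
  exists_lift : ∀ {n : ℕ} (a : Fin (n + 1) → κ) {T : AlgSp.EtOver X} (_ : Aff X T) (u : T ⟶ U)
    (e : ∀ k, T ⟶ Z (a k)), (∀ k, e k ≫ f (a k) = u) → ∃ g : T ⟶ P a, ∀ k, g ≫ pr a k = e k

variable {U : AlgSp.EtOver X} {κ : Type (u + 1)} {Z : κ → AlgSp.EtOver X} {f : ∀ i, Z i ⟶ U}

/-- A component of a point of a tuple. -/
abbrev Pt (Z : κ → AlgSp.EtOver X) (T : AlgSp.EtOver X) : Type (u + 1) := Σ i : κ, T ⟶ Z i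

variable (D : Tup U Z f) {M : AlgSp.ModEt X}

/-- The face maps. -/
def Tup.face {n : ℕ} (a : Fin (n + 2) → κ) (i : Fin (n + 2)) : D.P a ⟶ D.P (a ∘ i.succAbove) :=
  (D.exists_lift (a ∘ i.succAbove) (D.aff a) (D.base a) (fun k => D.pr a (i.succAbove k))
    fun _ => D.comm a _).choose

theorem Tup.face_pr {n : ℕ} (a : Fin (n + 2) → κ) (i : Fin (n + 2)) (k : Fin (n + 1)) :
    D.face a i ≫ D.pr (a ∘ i.succAbove) k = D.pr a (i.succAbove k) :=
  (D.exists_lift (a ∘ i.succAbove) (D.aff a) (D.base a) (fun k => D.pr a (i.succAbove k))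
    fun _ => D.comm a _).choose_spec k

theorem Tup.face_base {n : ℕ} (a : Fin (n + 2) → κ) (i : Fin (n + 2)) :
    D.face a i ≫ D.base (a ∘ i.succAbove) = D.base a := by
  rw [← D.comm (a ∘ i.succAbove) 0, ← Category.assoc, D.face_pr a i 0]
  exact D.comm a _

/-- A cochain at a point. -/
def Tup.ev {n : ℕ} (x : ∀ a : Fin (n + 1) → κ, Sec M (D.P a)) {T : AlgSp.EtOver X} (hT : Aff X T)
    (u : T ⟶ U) (p : Fin (n + 1) → Pt Z T) (hp : ∀ k, (p k).2 ≫ f (p k).1 = u) : Sec M T :=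
  resS M (D.exists_lift (fun k => (p k).1) hT u (fun k => (p k).2) hp).choose (x fun k => (p k).1)

theorem Tup.ev_eq {n : ℕ} (x : ∀ a : Fin (n + 1) → κ, Sec M (D.P a)) {T : AlgSp.EtOver X} (hT : Aff X T)
    (u : T ⟶ U) (p : Fin (n + 1) → Pt Z T) (hp : ∀ k, (p k).2 ≫ f (p k).1 = u) (g : T ⟶ D.P fun k => (p k).1)
    (hg : ∀ k, g ≫ D.pr _ k = (p k).2) : D.ev x hT u p hp = resS M g (x fun k => (p k).1) := by
  refine congrArg (fun l => resS M l (x fun k => (p k).1)) (D.hom_ext _ hT _ _ fun k => ?_)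
  rw [hg k]
  exact (D.exists_lift (fun k => (p k).1) hT u (fun k => (p k).2) hp).choose_spec k

theorem Tup.res_ev {n : ℕ} (x : ∀ a : Fin (n + 1) → κ, Sec M (D.P a)) {T T' : AlgSp.EtOver X} (hT : Aff X T)
    (hT' : Aff X T') (s : T' ⟶ T) (u : T ⟶ U) (p : Fin (n + 1) → Pt Z T) (hp : ∀ k, (p k).2 ≫ f (p k).1 = u) :
    resS M s (D.ev x hT u p hp) = D.ev x hT' (s ≫ u) (fun k => ⟨(p k).1, s ≫ (p k).2⟩)
      (fun k => by rw [Category.assoc, hp k]) := by
  rw [D.ev_eq x hT' (s ≫ u) (fun k => ⟨(p k).1, s ≫ (p k).2⟩) (fun k => by rw [Category.assoc, hp k])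
    (s ≫ (D.exists_lift (fun k => (p k).1) hT u (fun k => (p k).2) hp).choose)
    (fun k => by
      rw [Category.assoc]
      exact congrArg (s ≫ ·) ((D.exists_lift (fun k => (p k).1) hT u (fun k => (p k).2) hp).choose_spec k))]
  exact resS_comp M _ s _

theorem Tup.ev_congr {n : ℕ} (x : ∀ a : Fin (n + 1) → κ, Sec M (D.P a)) {T : AlgSp.EtOver X} (hT : Aff X T)
    {u u' : T ⟶ U} {p p' : Fin (n + 1) → Pt Z T} (hu : u = u') (e : p = p')
    (hp : ∀ k, (p k).2 ≫ f (p k).1 = u) (hp' : ∀ k, (p' k).2 ≫ f (p' k).1 = u') :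
    D.ev x hT u p hp = D.ev x hT u' p' hp' := by
  subst hu e
  rfl

/-- The differential. -/
def Tup.d {n : ℕ} (y : ∀ a : Fin (n + 1) → κ, Sec M (D.P a)) (a : Fin (n + 2) → κ) : Sec M (D.P a) :=
  ∑ i : Fin (n + 2), (-1 : ℤ) ^ (i : ℕ) • resS M (D.face a i) (y (a ∘ i.succAbove))

/-- The cocycle condition, at points. -/
theorem Tup.sum_ev {n : ℕ} (x : ∀ a : Fin (n + 1) → κ, Sec M (D.P a)) (hx : ∀ a, D.d x a = 0)
    {T : AlgSp.EtOver X} (hT : Aff X T) (u : T ⟶ U) (p : Fin (n + 2) → Pt Z T)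
    (hp : ∀ k, (p k).2 ≫ f (p k).1 = u) :
    ∑ i : Fin (n + 2), (-1 : ℤ) ^ (i : ℕ) • D.ev x hT u (p ∘ i.succAbove) (fun k => hp _) = 0 := by
  obtain ⟨g, hg⟩ := D.exists_lift (fun k => (p k).1) hT u (fun k => (p k).2) hp
  have h := congrArg (M.val.presheaf.map g.op).hom (hx fun k => (p k).1)
  rw [Tup.d, map_sum, map_zero] at h
  refine Eq.trans (Finset.sum_congr rfl fun i _ => ?_) h
  refine Eq.trans (congrArg _ ?_) (map_zsmul (M.val.presheaf.map g.op).hom _ _).symm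
  rw [D.ev_eq x hT u (p ∘ i.succAbove) (fun k => hp _) (g ≫ D.face (fun k => (p k).1) i) (fun k => by
    rw [Category.assoc]
    exact (congrArg (g ≫ ·) (D.face_pr (fun k => (p k).1) i k)).trans (hg _))]
  exact (resS_comp M (D.face (fun k => (p k).1) i) g (x ((fun k => (p k).1) ∘ i.succAbove))).symm

section Local

variable (hM : QC M) (hU : Aff X U) (hZ : ∀ i, Aff X (Z i))

include hU in
/-- Base change of sections to a fibre product. -/
theorem exists_bc_iso {W V : AlgSp.EtOver X} (hM : QC M) (hW : Aff X W) {w : W ⟶ U} {j : κ}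
    {h : V ⟶ W} {k : V ⟶ Z j} (hV : Aff X V)
    (hpo : IsPushout ((AlgSp.OEt X).obj.map w.op) ((AlgSp.OEt X).obj.map (f j).op)
      ((AlgSp.OEt X).obj.map h.op) ((AlgSp.OEt X).obj.map k.op)) :
    letI := (rh (AlgSp.OEt X).obj (f j)).toAlgebra
    letI := Module.compHom (Sec M W) (rh (AlgSp.OEt X).obj w)
    ∃ ψ : (AlgSp.OEt X).obj.obj (op (Z j)) ⊗[(AlgSp.OEt X).obj.obj (op U)] Sec M W →+ Sec M V,
      Function.Bijective ψ ∧
      ∀ (s : (AlgSp.OEt X).obj.obj (op (Z j))) (x : Sec M W),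
        ψ (s ⊗ₜ[(AlgSp.OEt X).obj.obj (op U)] x) = rh (AlgSp.OEt X).obj k s • resS M h x := by
  let R := (AlgSp.OEt X).obj.obj (op U)
  let R' := (AlgSp.OEt X).obj.obj (op (Z j))
  let B := (AlgSp.OEt X).obj.obj (op W)
  let B' := (AlgSp.OEt X).obj.obj (op V)
  letI : Algebra R R' := (rh (AlgSp.OEt X).obj (f j)).toAlgebra
  letI : Algebra R B := (rh (AlgSp.OEt X).obj w).toAlgebra
  letI : Algebra R' B' := (rh (AlgSp.OEt X).obj k).toAlgebra
  letI : Algebra B B' := (rh (AlgSp.OEt X).obj h).toAlgebra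
  letI : Algebra R B' := ((rh (AlgSp.OEt X).obj k).comp (rh (AlgSp.OEt X).obj (f j))).toAlgebra
  haveI : IsScalarTower R R' B' := IsScalarTower.of_algebraMap_eq fun _ => rfl
  haveI : IsScalarTower R B B' := IsScalarTower.of_algebraMap_eq fun r => (ConcreteCategory.congr_hom hpo.w r).symm
  haveI : Algebra.IsPushout R R' B B' := CommRingCat.isPushout_iff_isPushout.1 hpo.flip
  let N : ModuleCat.{u + 1} B := (evalC (AlgSp.OEt X).obj W).obj M.val
  letI : Module R N := Module.compHom N (rh (AlgSp.OEt X).obj w)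
  haveI : IsScalarTower R B N := IsScalarTower.of_algebraMap_smul fun _ _ => rfl
  let e := (Algebra.IsPushout.cancelBaseChange R R' B B' N).symm
  refine ⟨((θ (AlgSp.OEt X).obj h).app M.val).hom.toAddMonoidHom.comp e.toAddMonoidHom,
    (hM.bijective h hW hV).comp e.bijective, fun s x => ?_⟩
  show (θ (AlgSp.OEt X).obj h).app M.val (e (s ⊗ₜ x)) = _
  rw [Algebra.IsPushout.cancelBaseChange_symm_tmul]
  exact θ_tmul (O := (AlgSp.OEt X).obj) M.val h _ x

variable {n : ℕ}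

/-- The contraction over a member of the family. -/
theorem exists_contraction (x : ∀ a : Fin (n + 2) → κ, Sec M (D.P a)) (hx : ∀ a, D.d x a = 0) (j : κ)
    {V : ∀ {l : ℕ}, (Fin (l + 1) → κ) → AlgSp.EtOver X} (hV : ∀ {l : ℕ} (a : Fin (l + 1) → κ), Aff X (V a))
    (h : ∀ {l : ℕ} (a : Fin (l + 1) → κ), V a ⟶ D.P a) (k : ∀ {l : ℕ} (a : Fin (l + 1) → κ), V a ⟶ Z j)
    (hk : ∀ {l : ℕ} (a : Fin (l + 1) → κ), h a ≫ D.base a = k a ≫ f j)
    (σ : ∀ (a : Fin (n + 2) → κ) (i : Fin (n + 2)), V a ⟶ V (a ∘ i.succAbove))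
    (hσ : ∀ a i, σ a i ≫ h _ = h a ≫ D.face a i) (hσk : ∀ a i, σ a i ≫ k _ = k a) :
    ∃ y : ∀ a : Fin (n + 1) → κ, Sec M (V a), ∀ a : Fin (n + 2) → κ,
      ∑ i : Fin (n + 2), (-1 : ℤ) ^ (i : ℕ) • resS M (σ a i) (y (a ∘ i.succAbove)) = resS M (h a) (x a) := by
  let p : ∀ {l : ℕ} (a : Fin (l + 1) → κ), Fin (l + 2) → Pt Z (V a) := fun a =>
    Fin.cons ⟨j, k a⟩ fun i => ⟨a i, h a ≫ D.pr a i⟩
  have hp : ∀ {l : ℕ} (a : Fin (l + 1) → κ) (i : Fin (l + 2)), (p a i).2 ≫ f (p a i).1 = h a ≫ D.base a :=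
    fun a i => by
      refine Fin.cases ?_ (fun i => ?_) i
      · exact (hk a).symm
      · show (h a ≫ D.pr a i) ≫ f (a i) = h a ≫ D.base a
        rw [Category.assoc, D.comm]
  refine ⟨fun a => D.ev x (hV a) _ (p a) (hp a), fun a => ?_⟩
  have h0 := D.sum_ev x hx (hV a) _ (p a) (hp a)
  rw [Fin.sum_univ_succ] at h0
  have e0 : D.ev x (hV a) (h a ≫ D.base a) (p a ∘ (0 : Fin (n + 3)).succAbove) (fun i => hp a _) =
      resS M (h a) (x a) := by
    refine (D.ev_congr x (hV a) rfl (funext fun k => ?_) _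
      (p' := fun k => ⟨a k, h a ≫ D.pr a k⟩) (fun k => by rw [Category.assoc, D.comm])).trans
      (D.ev_eq x (hV a) _ (fun k => (⟨a k, h a ≫ D.pr a k⟩ : Pt Z (V a))) _ (h a) fun _ => rfl)
    show p a ((0 : Fin (n + 3)).succAbove k) = _
    rw [Fin.succAbove_zero]
    rfl
  have ei : ∀ i : Fin (n + 2), resS M (σ a i) (D.ev x (hV (a ∘ i.succAbove)) _ (p (a ∘ i.succAbove)) (hp _)) =
      D.ev x (hV a) (h a ≫ D.base a) (p a ∘ i.succ.succAbove) (fun i => hp a _) := fun i => by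
    rw [D.res_ev x (hV (a ∘ i.succAbove)) (hV a)]
    refine D.ev_congr x (hV a) ?_ (funext fun l => ?_) _ _
    · rw [← Category.assoc, hσ, Category.assoc, D.face_base]
    · refine Fin.cases ?_ (fun l => ?_) l
      · show (⟨j, σ a i ≫ k _⟩ : Pt Z (V a)) = p a (i.succ.succAbove 0)
        rw [hσk, Fin.succ_succAbove_zero]
        rfl
      · show (⟨a (i.succAbove l), σ a i ≫ h _ ≫ D.pr (a ∘ i.succAbove) l⟩ : Pt Z (V a)) =
          p a (i.succ.succAbove l.succ)
        rw [Fin.succ_succAbove_succ, ← Category.assoc, hσ, Category.assoc, D.face_pr]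
        rfl
  simp only [Fin.val_zero, pow_zero, one_smul, Fin.val_succ, pow_succ, mul_neg_one, neg_smul] at h0
  rw [Finset.sum_neg_distrib, add_neg_eq_zero, e0] at h0
  exact (Finset.sum_congr rfl fun i _ => congrArg _ (ei i)).trans h0.symm

end Local

/-- The Čech complex of a quasi-coherent module for a finite affine cover of an affine is exact in positive degrees. -/
theorem cech_exact [Finite κ] (hM : QC M) (hU : Aff X U) (hZ : ∀ i, Aff X (Z i))
    (hs : ∀ w : U.obj.left.left, ∃ (i : κ) (z : (Z i).obj.left.left), (f i).hom.left.left z = w)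
    {n : ℕ} (x : ∀ a : Fin (n + 2) → κ, Sec M (D.P a)) (hx : ∀ a, D.d x a = 0) :
    ∃ y : ∀ a : Fin (n + 1) → κ, Sec M (D.P a), ∀ a, D.d y a = x a := by
  classical
  let R := (AlgSp.OEt X).obj.obj (op U)
  haveI := Fintype.ofFinite κ
  obtain ⟨m, ⟨eκ⟩⟩ := Finite.exists_equiv_fin κ
  let B := fun i : ULift.{u + 1} (Fin m) => ((AlgSp.OEt X).obj.obj (op (Z (eκ.symm i.down))) : Type (u + 1))
  letI : ∀ i, Algebra R (B i) := fun i => (rh (AlgSp.OEt X).obj (f (eκ.symm i.down))).toAlgebra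
  haveI : Module.FaithfullyFlat R (∀ i, B i) :=
    faithfullyFlat_family (f := fun i => f (eκ.symm i)) (affSite X) hU (fun i => hZ _)
      (exists_prime_lift hU (fun i => f (eκ.symm i)) fun w => by
        obtain ⟨i, z, hz⟩ := hs w
        obtain ⟨i, rfl⟩ := eκ.symm.surjective i
        exact ⟨i, z, hz⟩)
  letI : ∀ {l : ℕ} (a : Fin (l + 1) → κ), Module R (Sec M (D.P a)) := fun a =>
    Module.compHom (Sec M (D.P a)) (rh (AlgSp.OEt X).obj (D.base a))
  let C0 := ∀ a : Fin (n + 1) → κ, Sec M (D.P a)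
  let C1 := ∀ a : Fin (n + 2) → κ, Sec M (D.P a)
  have hlin : ∀ (a : Fin (n + 2) → κ) (i : Fin (n + 2)) (r : R) (y : Sec M (D.P (a ∘ i.succAbove))),
      resS M (D.face a i) (r • y) = r • resS M (D.face a i) y := fun a i r y => by
    show resS M (D.face a i) (rh (AlgSp.OEt X).obj (D.base (a ∘ i.succAbove)) r • y) = rh (AlgSp.OEt X).obj (D.base a) r • _
    rw [resS_smul]
    refine congrArg (· • resS M (D.face a i) y) ?_
    rw [← D.face_base a i, rh_comp]
  let dL : C0 →ₗ[R] C1 :=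
    { toFun := fun y a => D.d y a
      map_add' := fun y y' => funext fun a => by
        refine (Finset.sum_congr rfl fun i _ => ?_).trans Finset.sum_add_distrib
        show (-1 : ℤ) ^ (i : ℕ) • resS M (D.face a i) (y (a ∘ i.succAbove) + y' (a ∘ i.succAbove)) = _
        rw [resS_add, smul_add]
      map_smul' := fun r y => funext fun a => by
        refine (Finset.sum_congr rfl fun i _ => ?_).trans Finset.smul_sum.symm
        show (-1 : ℤ) ^ (i : ℕ) • resS M (D.face a i) (r • y (a ∘ i.succAbove)) = _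
        rw [hlin a i r (y (a ∘ i.succAbove)), smul_comm]
        rfl }
  suffices hx' : (x : C1) ∈ LinearMap.range dL by
    obtain ⟨y, hy⟩ := hx'
    exact ⟨y, fun a => congrFun hy a⟩
  refine AffSub.local_aux (LinearMap.range dL) B (x : C1) fun j => ?_
  choose V h k hV e hpb hpo using fun (l : ℕ) (a : Fin (l + 1) → κ) =>
    (affSite X).exists_fibre (D.base a) (f (eκ.symm j.down)) hU (D.aff a) (hZ _)
  choose ψ hψb hψ using fun (l : ℕ) (a : Fin (l + 1) → κ) =>
    exists_bc_iso (f := f) hU hM (D.aff a) (hV l a) (hpo l a)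
  have hσ : ∀ (a : Fin (n + 2) → κ) (i : Fin (n + 2)), ∃ σ : V _ a ⟶ V _ (a ∘ i.succAbove),
      σ ≫ h _ _ = h _ a ≫ D.face a i ∧ σ ≫ k _ _ = k _ a := fun a i =>
    ⟨(hpb _ _).lift (h _ a ≫ D.face a i) (k _ a) (by rw [Category.assoc, D.face_base, e]),
      (hpb _ _).lift_fst _ _ _, (hpb _ _).lift_snd _ _ _⟩
  choose σ hσ hσk using hσ
  obtain ⟨y, hy⟩ := exists_contraction D x hx (eκ.symm j.down) (fun {l} a => hV l a) (fun {l} a => h l a)
    (fun {l} a => k l a) (fun {l} a => e l a) σ hσ hσk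
  let pi0 := TensorProduct.piRight R R (B j) fun a : Fin (n + 1) → κ => Sec M (D.P a)
  let pi1 := TensorProduct.piRight R R (B j) fun a : Fin (n + 2) → κ => Sec M (D.P a)
  choose z hz using fun a => (hψb n a).2 (y a)
  obtain ⟨w, hw⟩ := pi0.surjective z
  have key : ∀ (w : B j ⊗[R] C0) (a : Fin (n + 2) → κ),
      ψ (n + 1) a (pi1 (dL.lTensor (B j) w) a) =
        ∑ i : Fin (n + 2), (-1 : ℤ) ^ (i : ℕ) • resS M (σ a i) (ψ n _ (pi0 w (a ∘ i.succAbove))) := by
    intro w a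
    induction w using TensorProduct.induction_on with
    | zero => simp only [map_zero, Pi.zero_apply, resS_zero, smul_zero, Finset.sum_const_zero]
    | add w w' hw hw' => simp only [map_add, Pi.add_apply, resS_add, smul_add, Finset.sum_add_distrib, hw, hw']
    | tmul s c =>
      show ψ (n + 1) a (s ⊗ₜ[R] D.d c a) = _
      rw [hψ, Tup.d]
      rw [resS_sum, Finset.smul_sum]
      refine Finset.sum_congr rfl fun i _ => ?_
      show rh (AlgSp.OEt X).obj (k _ a) s • resS M (h _ a) _ =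
        (-1 : ℤ) ^ (i : ℕ) • resS M (σ a i) (ψ n _ (s ⊗ₜ[R] c (a ∘ i.succAbove)))
      rw [resS_zsmul, smul_comm, hψ, resS_smul, ← hσk a i, rh_comp]
      refine congrArg _ ?_
      refine congrArg _ ?_
      rw [resS_comp, resS_comp, hσ]
  have hw1 : dL.lTensor (B j) w = (1 : B j) ⊗ₜ[R] (x : C1) := by
    refine pi1.injective (funext fun a => (hψb (n + 1) a).1 ?_)
    rw [key]
    refine Eq.trans ?_ ((hψ (n + 1) a 1 (x a)).trans (by rw [map_one, one_smul])).symm
    refine (Finset.sum_congr rfl fun i _ => ?_).trans (hy a)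
    rw [hw, hz]
  refine ⟨dL.rangeRestrict.lTensor (B j) w, ?_⟩
  rw [← LinearMap.comp_apply, ← LinearMap.lTensor_comp]
  exact hw1

end Groth.Agent.AlgSpVan

end
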