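import Groth.Agent.AlgSpVan.EtPull
import Groth.Agent.ASp.EtPushStalk

/-! The inverse image of the constant sheaf `ℤ`. -/

set_option autoImplicit false
set_option linter.style.haveILetI false
set_option backward.isDefEq.respectTransparency false
set_option backward.isDefEq.respectTransparency.types false
set_option maxHeartbeats 800000

universe u

open CategoryTheory Limits AlgebraicGeometry Opposite

noncomputable section

namespace Groth.Agent.AlgSpVan

open AlgSp

variable {S : Scheme.{u}} {X Y : Sp S} {f : X ⟶ Y} (hf : Representable f)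
  (hX : IsAlgSpace X) (hY : IsAlgSpace Y) (F : AbEt X)

/-- A natural family of sections over base changes. -/
def BcFam : Type _ :=
  {s : ∀ E : EtOver Y, F.obj.obj (op ((EtOver.bc hf).obj E)) //
    ∀ (E E' : EtOver Y) (g : E ⟶ E'), F.obj.map ((EtOver.bc hf).map g).op (s E') = s E}

/-- The neighbourhood of the image point given by a map to a base change. -/
def imgNbhd {z : FieldPt X} {D : EtOver X} (l : (FieldPt.liftsTo z).obj D) {E : EtOver Y}
    (a : D ⟶ (EtOver.bc hf).obj E) : EtNbhd (z.map f) :=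
  ⟨E, (bcLiftsIso hf z).hom.app E ((FieldPt.liftsTo z).map a l)⟩

theorem germ_eq {z : FieldPt X} {D : EtOver X} (l : (FieldPt.liftsTo z).obj D) {E : EtOver Y}
    (a : D ⟶ (EtOver.bc hf).obj E) (s : BcFam hf F) :
    stalkEtι z F ⟨D, l⟩ (F.obj.map a.op (s.1 E)) =
      stalkEtι z F ((ASp.liftNbhd hf z).obj (imgNbhd hf l a)) (s.1 E) := by
  let m : @Quiver.Hom (EtNbhd z) _ ⟨D, l⟩ ((ASp.liftNbhd hf z).obj (imgNbhd hf l a)) :=
    ⟨a, (ConcreteCategory.congr_hom ((bcLiftsIso hf z).hom_inv_id_app E) ((FieldPt.liftsTo z).map a l)).symm⟩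
  exact ConcreteCategory.congr_hom (colimit.w (stalkEtDiagram z F) m.op) (s.1 E)

include hY in
theorem germ_indep {z : FieldPt X} (hz : (z.map f).IsGeometric) (s : BcFam hf F) (N N' : EtNbhd (z.map f)) :
    stalkEtι z F ((ASp.liftNbhd hf z).obj N) (s.1 N.1) = stalkEtι z F ((ASp.liftNbhd hf z).obj N') (s.1 N'.1) := by
  haveI := ASp.isCofiltered_etNbhd hY hz
  have h : ∀ {M M' : EtNbhd (z.map f)} (g : M ⟶ M'),
      stalkEtι z F ((ASp.liftNbhd hf z).obj M) (s.1 M.1) = stalkEtι z F ((ASp.liftNbhd hf z).obj M') (s.1 M'.1) := by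
    intro M M' g
    refine Eq.trans ?_ (ConcreteCategory.congr_hom (colimit.w (stalkEtDiagram z F) ((ASp.liftNbhd hf z).map g).op) (s.1 M'.1))
    exact congrArg (stalkEtι z F ((ASp.liftNbhd hf z).obj M)) (s.2 _ _ g.1).symm
  exact (h (IsCofiltered.minToLeft N N')).symm.trans (h (IsCofiltered.minToRight N N'))

include hX hY in
theorem map_indep (s : BcFam hf F) {D : EtOver X} {E E' : EtOver Y} (a : D ⟶ (EtOver.bc hf).obj E)
    (b : D ⟶ (EtOver.bc hf).obj E') : F.obj.map a.op (s.1 E) = F.obj.map b.op (s.1 E') := by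
  refine ASp.eq_of_agreeSet F _ _ fun x => ?_
  obtain ⟨z, hz, l, hl⟩ := ASp.exists_geometric_lift D x
  haveI := ASp.isFiltered_etNbhd hX hz
  rw [← hl]
  refine (ASp.ι_eq_ι_iff F _ _ hz l).1 ?_
  rw [germ_eq, germ_eq]
  exact germ_indep hf hY F hz s (imgNbhd hf l a) (imgNbhd hf l b)

/-- The sieve of maps factoring through base changes. -/
def bcSieve (U : EtOver X) : Sieve U where
  arrows D _ := ∃ E : EtOver Y, Nonempty (D ⟶ (EtOver.bc hf).obj E)
  downward_closed := fun ⟨E, ⟨a⟩⟩ g => ⟨E, ⟨g ≫ a⟩⟩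

include hX hY in
theorem bcSieve_mem (U : EtOver X) : bcSieve hf U ∈ etTop X U := by
  let ι := {k : Σ V : EtOver X, (V ⟶ U) // bcSieve hf U k.2}
  refine (etTop X).superset_covering ((Sieve.generate_le_iff _ _).2 ?_)
    (ofArrows_mem_etTop (fun k : ι => k.1.1) (fun k => k.1.2) fun x => ?_)
  · rintro _ _ ⟨k⟩
    exact k.2
  · obtain ⟨z, hz, l, hl⟩ := ASp.exists_geometric_lift U x
    obtain ⟨N⟩ := ASp.nonempty_etNbhd hY (p := z.map f) hz
    haveI := ASp.isCofiltered_etNbhd hX hz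
    let N₁ : EtNbhd z := ⟨U, l⟩
    let N₂ := (ASp.liftNbhd hf z).obj N
    let W := IsCofiltered.min N₁ N₂
    let p := IsCofiltered.minToLeft N₁ N₂
    have hw := congrArg (fun q => q.1.left (IsLocalRing.closedPoint z.K)) p.2
    exact ⟨⟨⟨W.1, p.1⟩, N.1, ⟨(IsCofiltered.minToRight N₁ N₂).1⟩⟩, W.2.1.left (IsLocalRing.closedPoint z.K),
      ((Scheme.Hom.comp_apply _ _ _).symm.trans hw).trans hl⟩

/-- The sections on the sieve. -/
def famOf (s : BcFam hf F) (U : EtOver X) :
    Presieve.FamilyOfElements (F.obj ⋙ forget AddCommGrpCat.{u + 1}) (bcSieve hf U).arrows :=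
  fun _ _ h => F.obj.map h.choose_spec.some.op (s.1 h.choose)

include hX hY in
theorem famOf_compatible (s : BcFam hf F) (U : EtOver X) : (famOf hf F s U).Compatible := by
  intro A B C g₁ g₂ f₁ f₂ h₁ h₂ _
  change F.obj.map g₁.op (F.obj.map h₁.choose_spec.some.op (s.1 h₁.choose)) =
    F.obj.map g₂.op (F.obj.map h₂.choose_spec.some.op (s.1 h₂.choose))
  rw [← ConcreteCategory.comp_apply, ← Functor.map_comp, ← op_comp, ← ConcreteCategory.comp_apply,
    ← Functor.map_comp, ← op_comp]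
  exact map_indep hf hX hY F s _ _

include hX hY in
/-- Natural families over base changes extend uniquely. -/
theorem existsUnique_extend (s : BcFam hf F) :
    (∃ t : ∀ U : EtOver X, F.obj.obj (op U), (∀ (U V : EtOver X) (g : V ⟶ U), F.obj.map g.op (t U) = t V) ∧
      ∀ E, t ((EtOver.bc hf).obj E) = s.1 E) ∧
    (∀ t t' : ∀ U : EtOver X, F.obj.obj (op U), (∀ (U V : EtOver X) (g : V ⟶ U), F.obj.map g.op (t U) = t V) →
      (∀ (U V : EtOver X) (g : V ⟶ U), F.obj.map g.op (t' U) = t' V) →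
      (∀ E, t ((EtOver.bc hf).obj E) = t' ((EtOver.bc hf).obj E)) → t = t') := by
  have hsh : Presieve.IsSheaf (etTop X) (F.obj ⋙ forget AddCommGrpCat.{u + 1}) :=
    (isSheaf_iff_isSheaf_of_type _ _).1 ((sheafCompose (etTop X) (forget AddCommGrpCat.{u + 1})).obj F).2
  refine ⟨?_, fun t t' ht ht' h => funext fun U => (hsh _ (bcSieve_mem hf hX hY U)).isSeparatedFor.ext
    fun V g ⟨E, ⟨a⟩⟩ => (ht U V g).trans (((ht _ V a).symm.trans ((congrArg (F.obj.map a.op) (h E)).trans
      (ht' _ V a))).trans (ht' U V g).symm)⟩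
  choose t ht using fun U => (hsh _ (bcSieve_mem hf hX hY U) (famOf hf F s U) (famOf_compatible hf hX hY F s U)).exists
  refine ⟨t, fun U V g => (hsh _ (bcSieve_mem hf hX hY V)).isSeparatedFor.ext fun W h hh => ?_, fun E => ?_⟩
  · obtain ⟨E, ⟨a⟩⟩ := id hh
    have hh' : bcSieve hf U (h ≫ g) := ⟨E, ⟨a⟩⟩
    refine Eq.trans ?_ ((map_indep hf hX hY F s a _).trans (ht V h hh).symm)
    refine Eq.trans ?_ ((ht U (h ≫ g) hh').trans (map_indep hf hX hY F s _ a))
    change F.obj.map h.op (F.obj.map g.op (t U)) = F.obj.map (h ≫ g).op (t U)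
    rw [op_comp, Functor.map_comp, ConcreteCategory.comp_apply]
  · have h1 : bcSieve hf ((EtOver.bc hf).obj E) (𝟙 _) := ⟨E, ⟨𝟙 _⟩⟩
    have h2 := (ht _ (𝟙 _) h1).trans (map_indep hf hX hY F s _ (𝟙 _) : _ = F.obj.map (𝟙 _).op (s.1 E))
    change F.obj.map (𝟙 _).op (t _) = _ at h2
    rw [op_id, F.obj.map_id] at h2
    exact h2

/-- Sections of the constant presheaf. -/
def constHom (F : AbEt X) (t : ∀ U : EtOver X, F.obj.obj (op U))
    (ht : ∀ (U V : EtOver X) (g : V ⟶ U), F.obj.map g.op (t U) = t V) :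
    (Functor.const (EtOver X)ᵒᵖ).obj (AddCommGrpCat.of (ULift.{u + 1} ℤ)) ⟶ F.obj where
  app U := AddCommGrpCat.ofHom ((zmultiplesHom _ (t U.unop)).comp AddEquiv.ulift.toAddMonoidHom)
  naturality U V g := by
    ext ⟨z⟩
    show (z • t V.unop) = F.obj.map g (z • t U.unop)
    rw [map_zsmul]
    exact congrArg (z • ·) (ht U.unop V.unop g.unop).symm

theorem const_app_nat {P : (EtOver X)ᵒᵖ ⥤ AddCommGrpCat.{u + 1}}
    (φ : (Functor.const (EtOver X)ᵒᵖ).obj (AddCommGrpCat.of (ULift.{u + 1} ℤ)) ⟶ P) {U V : EtOver X} (g : V ⟶ U) :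
    P.map g.op (φ.app (op U) (ULift.up 1)) = φ.app (op V) (ULift.up 1) :=
  (ConcreteCategory.congr_hom (φ.naturality g.op) (ULift.up 1)).symm

theorem const_ext {C : Type*} [Category C] {P : C ⥤ AddCommGrpCat.{u + 1}}
    {φ ψ : (Functor.const C).obj (AddCommGrpCat.of (ULift.{u + 1} ℤ)) ⟶ P}
    (h : ∀ U, φ.app U (ULift.up 1) = ψ.app U (ULift.up 1)) : φ = ψ := by
  refine NatTrans.ext (funext fun U => ?_)
  ext ⟨z⟩
  have hz : (ULift.up z : ULift.{u + 1} ℤ) = z • ULift.up 1 := by ext; simp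
  show φ.app U (ULift.up z) = ψ.app U (ULift.up z)
  rw [hz, map_zsmul, map_zsmul, h U]

variable (X) in
/-- The constant sheaf `ℤ`. -/
abbrev cZ : AbEt X := (constantSheaf (etTop X) AddCommGrpCat.{u + 1}).obj (AddCommGrpCat.of (ULift.{u + 1} ℤ))

/-- Restriction of maps from the constant sheaf along the base change. -/
def restrConst (F : AbEt X) (φ : cZ X ⟶ F) :
    cZ Y ⟶ (pushEt hf AddCommGrpCat.{u + 1}).obj F :=
  ((sheafificationAdjunction (etTop Y) AddCommGrpCat.{u + 1}).homEquiv _ _).symm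
    (Functor.whiskerLeft (EtOver.bc hf).op ((sheafificationAdjunction (etTop X) AddCommGrpCat.{u + 1}).homEquiv _ _ φ))

theorem restrConst_comp {F G : AbEt X} (φ : cZ X ⟶ F) (a : F ⟶ G) :
    restrConst hf G (φ ≫ a) = restrConst hf F φ ≫ (pushEt hf AddCommGrpCat.{u + 1}).map a := by
  unfold restrConst
  rw [← Adjunction.homEquiv_naturality_right_symm, Adjunction.homEquiv_naturality_right]
  rfl

include hX hY in
theorem restrConst_bijective : Function.Bijective (restrConst hf F) := by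
  have h : Function.Bijective (fun ψ : (Functor.const (EtOver X)ᵒᵖ).obj (AddCommGrpCat.of (ULift.{u + 1} ℤ)) ⟶ F.obj =>
      (Functor.whiskerLeft (EtOver.bc hf).op ψ :
        (Functor.const (EtOver Y)ᵒᵖ).obj (AddCommGrpCat.of (ULift.{u + 1} ℤ)) ⟶ (EtOver.bc hf).op ⋙ F.obj)) := by
    refine ⟨fun ψ ψ' hψ => const_ext fun U => @congrFun (EtOver X) (fun V => F.obj.obj (op V))
      (fun V => ψ.app (op V) (ULift.up 1)) (fun V => ψ'.app (op V) (ULift.up 1)) ?_ U.unop, fun χ => ?_⟩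
    · exact (existsUnique_extend hf hX hY F ⟨fun E => ψ.app (op ((EtOver.bc hf).obj E)) (ULift.up 1),
        fun E E' g => const_app_nat ψ _⟩).2 (fun U => ψ.app (op U) (ULift.up 1)) (fun U => ψ'.app (op U) (ULift.up 1))
        (fun _ _ g => const_app_nat ψ g) (fun _ _ g => const_app_nat ψ' g)
        (fun E => ConcreteCategory.congr_hom (congr_app hψ (op E)) (ULift.up 1))
    · obtain ⟨t, ht, hts⟩ := (existsUnique_extend hf hX hY F ⟨fun E => χ.app (op E) (ULift.up 1),
        fun E E' g => (ConcreteCategory.congr_hom (χ.naturality g.op) (ULift.up 1)).symm⟩).1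
      refine ⟨constHom F t ht, const_ext fun E => ?_⟩
      exact (one_zsmul _).trans (hts E.unop)
  exact (Equiv.bijective _).comp (h.comp (Equiv.bijective _))

include hX hY in
/-- The inverse image of `ℤ` is `ℤ`. -/
theorem nonempty_pull_cZ_iso : Nonempty ((pullEt hf AddCommGrpCat.{u + 1}).obj (cZ Y) ≅ cZ X) := by
  let adj := pullPushAdjEt hf AddCommGrpCat.{u + 1}
  let θ : (pullEt hf AddCommGrpCat.{u + 1}).obj (cZ Y) ⟶ cZ X := (adj.homEquiv _ _).symm (restrConst hf _ (𝟙 _))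
  have h : ∀ G (φ : cZ X ⟶ G), θ ≫ φ = (adj.homEquiv _ _).symm (restrConst hf G φ) := fun G φ => by
    rw [← adj.homEquiv_naturality_right_symm, ← restrConst_comp, Category.id_comp]
  obtain ⟨k, hk⟩ := (restrConst_bijective hf hX hY _).2 (adj.homEquiv _ _ (𝟙 ((pullEt hf AddCommGrpCat.{u + 1}).obj (cZ Y))))
  have h1 : θ ≫ k = 𝟙 _ := by rw [h, hk, Equiv.symm_apply_apply]
  refine ⟨⟨θ, k, h1, (restrConst_bijective hf hX hY _).1 ((adj.homEquiv _ _).symm.injective ?_)⟩⟩
  rw [← h, ← h, ← Category.assoc, h1, Category.id_comp, Category.comp_id]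

end Groth.Agent.AlgSpVan

end
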