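import Groth.Agent.AlgSpVan.Main
import Groth.Agent.AlgSpVan.ConstPull
import Groth.Agent.AlgSpQC.Push
import Groth.Agent.FppfCmp.Exact
import Groth.Agent.FppfCmp.AcycExt

/-! Higher direct images along affine morphisms. -/

set_option autoImplicit false
set_option linter.style.haveILetI false
set_option backward.isDefEq.respectTransparency false
set_option backward.isDefEq.respectTransparency.types false
set_option maxHeartbeats 800000

universe u

open CategoryTheory Limits AlgebraicGeometry Opposite Abelian

noncomputable section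

namespace Groth.Agent.AlgSpVan

open AlgSp Groth.Agent.AlgSpQC

variable {S : Scheme.{u}} {X Y : Sp S} {f : X ⟶ Y} (hf : Representable f) (haff : IsAffineMor f)

include haff in
/-- Direct image of an injective resolution of a quasi-coherent module stays exact. -/
theorem exactAt_push {M : ModEt X} (hM : QC M) (R : InjectiveResolution ((toAbEt X).obj M)) (n : ℕ) :
    (((pushEt hf AddCommGrpCat.{u + 1}).mapHomologicalComplex (ComplexShape.up ℕ)).obj R.cocomplex).ExactAt (n + 1) := by
  rw [HomologicalComplex.exactAt_iff' _ n (n + 1) (n + 2) (by simp) (by simp)]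
  refine FppfCmp.exact_of_imageSieve_mem.{u + 1, u, u + 1} (J := etTop Y) _ fun U c hc => affine_mem fun V g hV => ?_
  change (((pushEt hf AddCommGrpCat.{u + 1}).map (R.cocomplex.d (n + 1) (n + 2))).hom.app (op U)) c = 0 at hc
  have hc' : (R.cocomplex.d (n + 1) (n + 2)).hom.app (op ((EtOver.bc hf).obj V))
      ((R.cocomplex.X (n + 1)).obj.map ((EtOver.bc hf).map g).op c) = 0 := by
    rw [NatTrans.naturality_apply]
    exact (congrArg _ hc).trans (map_zero _)
  obtain ⟨t, ht⟩ := exists_section_lift hM R (aff_bc hf haff hV) n _ hc'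
  exact ⟨t, ht⟩

include haff in
theorem isZero_rpushEt {M : ModEt X} (hM : QC M) (n : ℕ) :
    IsZero ((RpushEt hf (n + 1)).obj ((toAbEt X).obj M)) := by
  let R := injectiveResolution ((toAbEt X).obj M)
  exact ((exactAt_push hf haff hM R n).isZero_homology).of_iso (R.isoRightDerivedObj (pushEt hf AddCommGrpCat.{u + 1}) (n + 1))

include haff in
theorem nonempty_H_equiv (hX : IsAlgSpace X) (hY : IsAlgSpace Y) {M : ModEt X} (hM : QC M) (i : ℕ) :
    Nonempty (HModEt X M i ≃+ HModEt Y ((pushModEt hf).obj M) i) := by
  obtain ⟨e⟩ := nonempty_pull_cZ_iso hf hX hY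
  haveI := preservesMonomorphisms_pullEt hf hX hY
  let R := injectiveResolution ((toAbEt X).obj M)
  obtain ⟨φ⟩ := FppfCmp.nonempty_ext_equiv_of_resolution (pullPushAdjEt hf AddCommGrpCat.{u + 1}) R
    (exactAt_push hf haff hM R) e i
  exact ⟨φ.symm⟩

end Groth.Agent.AlgSpVan

end
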