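import Groth.Agent.ASp.EtStalkExact
import Groth.Prelude.Def_AlgSpOX2
import Mathlib.CategoryTheory.Sites.Point.Comap

/-! Inverse images of abelian sheaves preserve monomorphisms, and direct images preserve injectives. -/

set_option autoImplicit false
set_option linter.style.haveILetI false
set_option backward.isDefEq.respectTransparency false
set_option backward.isDefEq.respectTransparency.types false
set_option maxHeartbeats 800000

universe u

open CategoryTheory Limits AlgebraicGeometry Opposite

noncomputable section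

namespace Groth.Agent.AlgSpVan

open AlgSp

variable {S : Scheme.{u}} {X Y : Sp S} {f : X ⟶ Y} (hf : Representable f) (z : FieldPt X)

/-- Lifts to a base change are lifts of the image point. -/
def bcLiftsIso : EtOver.bc hf ⋙ FieldPt.liftsTo z ≅ FieldPt.liftsTo (z.map f) :=
  NatIso.ofComponents
    (fun E => Equiv.toIso
      { toFun := fun v => ⟨v.1 ≫ hf.snd E.obj.hom, by
          have h : (yon S).map v.1 ≫ hf.fst E.obj.hom = z.toHom := v.2
          rw [Functor.map_comp, Category.assoc, ← (hf.isPullback E.obj.hom).w, ← Category.assoc, h]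
          exact (FieldPt.toHom_map f z).symm⟩
        invFun := fun u => ⟨hf.lift z.toHom u.1 ((u.2.trans (FieldPt.toHom_map f z)).symm), hf.lift_fst _ _ _⟩
        left_inv := fun v => Subtype.ext (hf.hom_ext ((hf.lift_fst _ _ _).trans v.2.symm) (hf.lift_snd _ _ _))
        right_inv := fun u => Subtype.ext (hf.lift_snd _ _ _) })
    (fun {E E'} g => by
      ext v
      refine Subtype.ext ?_
      show (v.1 ≫ (EtOver.bcMap hf g).hom.left) ≫ hf.snd E'.obj.hom = (v.1 ≫ hf.snd E.obj.hom) ≫ g.hom.left
      rw [Category.assoc, EtOver.bcMap_snd, ← Category.assoc])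

section Elements

variable {C : Type*} [Category C] {F G : C ⥤ Type u} (α : F ≅ G)

/-- Isomorphic functors have equivalent categories of elements. -/
def elementsEquiv : F.Elements ≌ G.Elements where
  functor := CategoryOfElements.map α.hom
  inverse := CategoryOfElements.map α.inv
  unitIso := NatIso.ofComponents (fun x => CategoryOfElements.isoMk x _ (Iso.refl x.1) (by
    show F.map (𝟙 x.1) x.2 = α.inv.app x.1 (α.hom.app x.1 x.2)
    simp)) (fun g => CategoryOfElements.ext _ _ _ (by
      show g.1 ≫ 𝟙 _ = 𝟙 _ ≫ g.1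
      simp))
  counitIso := NatIso.ofComponents (fun x => CategoryOfElements.isoMk _ x (Iso.refl x.1) (by
    show G.map (𝟙 x.1) (α.hom.app x.1 (α.inv.app x.1 x.2)) = x.2
    simp)) (fun g => CategoryOfElements.ext _ _ _ (by
      show g.1 ≫ 𝟙 _ = 𝟙 _ ≫ g.1
      simp))
  functor_unitIso_comp x := CategoryOfElements.ext _ _ _ (by
    show 𝟙 x.1 ≫ 𝟙 _ = 𝟙 _
    simp)

end Elements

theorem comap_jointly_surjective {C : Type*} [Category C] {J : GrothendieckTopology C} {F G : C ⥤ Type u}
    (α : F ≅ G)
    (h : ∀ {E : C} (R : Sieve E) (_ : R ∈ J E) (x : G.obj E),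
      ∃ (E' : C) (g : E' ⟶ E) (_ : R g) (y : G.obj E'), G.map g y = x)
    {E : C} (R : Sieve E) (hR : R ∈ J E) (x : F.obj E) :
    ∃ (E' : C) (g : E' ⟶ E) (_ : R g) (y : F.obj E'), F.map g y = x := by
  obtain ⟨E', g, hg, y, hy⟩ := h R hR (α.hom.app E x)
  exact ⟨E', g, hg, α.inv.app E' y, ((ConcreteCategory.congr_hom (α.inv.naturality g) y).symm.trans
    (congrArg (α.inv.app E) hy)).trans (ConcreteCategory.congr_hom (α.hom_inv_id_app E) x)⟩

/-- A point with prescribed isomorphic fibre functor. -/
def pointOfIso {C : Type*} [Category C] {J : GrothendieckTopology C} (Φ : GrothendieckTopology.Point.{u} J)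
    {F : C ⥤ Type u} (α : F ≅ Φ.fiber) : GrothendieckTopology.Point.{u} J where
  fiber := F
  isCofiltered := IsCofiltered.of_equivalence (elementsEquiv α.symm)
  initiallySmall := initiallySmall_of_initial_of_initiallySmall (elementsEquiv α.symm).functor
  jointly_surjective R hR x := comap_jointly_surjective α Φ.jointly_surjective R hR x

/-- The image point with fibre functor the lifts to base changes. -/
abbrev comapPoint (hY : IsAlgSpace Y) (hz' : (z.map f).IsGeometric) :
    GrothendieckTopology.Point.{u} (etTop Y) :=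
  pointOfIso (ASp.sitePoint hY (z.map f) hz') (bcLiftsIso hf z)

/-- Inverse image preserves monomorphisms. -/
theorem preservesMonomorphisms_pullEt (hX : IsAlgSpace X) (hY : IsAlgSpace Y) :
    (pullEt hf AddCommGrpCat.{u + 1}).PreservesMonomorphisms := by
  refine ⟨fun {A B} a ha => ?_⟩
  have key : ∀ p : FieldPt X, p.IsGeometric →
      Mono ((stalkEtFunctor AddCommGrpCat.{u + 1} p).map ((pullEt hf AddCommGrpCat.{u + 1}).map a)) := by
    intro p hp
    let Φ := ASp.sitePoint hX p hp
    let Ψ := comapPoint hf p hY hp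
    let e : Ψ.sheafFiber (A := AddCommGrpCat.{u + 1}) ≅ pullEt hf AddCommGrpCat.{u + 1} ⋙ Φ.sheafFiber :=
      (conjugateIsoEquiv ((pullPushAdjEt hf AddCommGrpCat.{u + 1}).comp Φ.skyscraperSheafAdjunction)
        Ψ.skyscraperSheafAdjunction).symm (Iso.refl _)
    haveI : Mono (Ψ.sheafFiber.map a) := inferInstance
    exact ((MorphismProperty.monomorphisms _).arrow_mk_iso_iff (Arrow.isoMk (e.app A) (e.app B)
      (e.hom.naturality a).symm)).1 (inferInstanceAs (Mono (Ψ.sheafFiber.map a)))
  let C : ShortComplex (AbEt X) := ShortComplex.mk (0 : (pullEt hf AddCommGrpCat.{u + 1}).obj A ⟶ _)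
    ((pullEt hf AddCommGrpCat.{u + 1}).map a) zero_comp
  refine (ShortComplex.exact_iff_mono C rfl).1 ((ASp.exact_iff_stalk hX C).2 fun p hp y hy => ⟨0, ?_⟩)
  exact (map_zero _).trans ((AddCommGrpCat.mono_iff_injective _).1 (key p hp) (hy.trans (map_zero _).symm)).symm

/-- Direct image preserves injective sheaves. -/
theorem preservesInjectiveObjects_pushEt (hX : IsAlgSpace X) (hY : IsAlgSpace Y) :
    (pushEt hf AddCommGrpCat.{u + 1}).PreservesInjectiveObjects :=
  haveI := preservesMonomorphisms_pullEt hf hX hY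
  ⟨fun {I} _ => (pullPushAdjEt hf AddCommGrpCat.{u + 1}).map_injective I inferInstance⟩

end Groth.Agent.AlgSpVan

end
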