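import Groth.Agent.AlgSpVan.Site
import Groth.Agent.CohColim.Transfer
import Groth.Agent.FppfCmp.Exact
import Mathlib.CategoryTheory.Abelian.Injective.Ext

/-! Affine vanishing on the small étale site, in terms of injective resolutions. -/

set_option autoImplicit false
set_option linter.style.haveILetI false
set_option linter.unusedSectionVars false
set_option backward.isDefEq.respectTransparency false
set_option backward.isDefEq.respectTransparency.types false
set_option maxHeartbeats 800000

universe u w v v' u' w'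

open CategoryTheory Limits AlgebraicGeometry Opposite Abelian
open Groth.Agent.AlgSpQC Groth.Agent.AlgSpFT Groth.Agent.CohColim

noncomputable section

namespace Groth.Agent.AlgSpVan

section General

/-- Cocycles from an object whose image under an equivalence has no cohomology are coboundaries. -/
theorem exists_lift_of_isEquivalence {A : Type u'} [Category.{v'} A] [Abelian A] [HasExt.{w'} A]
    {B : Type u} [Category.{v} B] [Abelian B] [HasExt.{w} B] (φ : A ⥤ B) [φ.Additive] [φ.IsEquivalence]
    {Q : B} {F : A} (R : InjectiveResolution F) (n : ℕ) (h : Subsingleton (Ext.{w} Q (φ.obj F) (n + 1)))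
    (f : Q ⟶ φ.obj (R.cocomplex.X (n + 1))) (hf : f ≫ φ.map (R.cocomplex.d (n + 1) (n + 2)) = 0) :
    ∃ g : Q ⟶ φ.obj (R.cocomplex.X n), g ≫ φ.map (R.cocomplex.d n (n + 1)) = f := by
  haveI := HasExt.standard A
  let e : φ.obj (φ.objPreimage Q) ≅ Q := φ.objObjPreimageIso Q
  let f' := φ.preimage (e.hom ≫ f)
  have hf' : f' ≫ R.cocomplex.d (n + 1) (n + 2) = 0 := φ.map_injective (by
    rw [φ.map_comp, φ.map_preimage, Category.assoc, hf, comp_zero, φ.map_zero])
  haveI : Subsingleton (Ext.{w} (φ.obj (φ.objPreimage Q)) (φ.obj F) (n + 1)) :=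
    Function.Injective.subsingleton (f := fun x => (Ext.mk₀ e.inv).comp x (zero_add (n + 1))) fun x y h => by
      simpa using congrArg (fun z => (Ext.mk₀ e.hom).comp z (zero_add (n + 1))) h
  have h0 : R.extMk f' (n + 2) rfl hf' = 0 :=
    (bijective_mapExt_of_isEquivalence φ (φ.objPreimage Q) F (n + 1)).1 (Subsingleton.elim _ _)
  obtain ⟨g, hg⟩ := (R.extMk_eq_zero_iff f' (n + 2) rfl hf' n rfl).1 h0
  refine ⟨e.inv ≫ φ.map g, ?_⟩
  rw [Category.assoc, ← φ.map_comp, hg, φ.map_preimage, Iso.inv_hom_id_assoc]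

variable {C : Type u} [SmallCategory C] {J : GrothendieckTopology C}

/-- Sections of the terms of an injective resolution, through an equivalence. -/
theorem exists_section_of_HU {A : Type u'} [Category.{v'} A] [Abelian A] [HasExt.{w'} A]
    (φ : A ⥤ Sheaf J AddCommGrpCat.{u}) [φ.Additive] [φ.IsEquivalence]
    {F : A} (R : InjectiveResolution F) (n : ℕ) (U : C)
    (h : Subsingleton (CohSite.HU (φ.obj F) (n + 1) U))
    (s : (φ.obj (R.cocomplex.X (n + 1))).obj.obj (op U))
    (hs : (φ.map (R.cocomplex.d (n + 1) (n + 2))).hom.app (op U) s = 0) :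
    ∃ t : (φ.obj (R.cocomplex.X n)).obj.obj (op U), (φ.map (R.cocomplex.d n (n + 1))).hom.app (op U) t = s := by
  obtain ⟨g, hg⟩ := exists_lift_of_isEquivalence φ R n h ((SiteBase.secEquiv U _).symm s) (by
    rw [SiteBase.secEquiv_symm_comp]
    exact (congrArg _ hs).trans (SiteBase.secEquiv_symm_zero U _))
  exact ⟨SiteBase.secEquiv U _ g,
    (SiteBase.secEquiv_comp U g _).symm.trans ((congrArg _ hg).trans (Equiv.apply_symm_apply _ _))⟩

end General

variable {S : Scheme.{u}} {X : AlgSp.Sp S}

variable (X) in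
/-- Restriction to the small subsite. -/
abbrev resQC : AlgSp.AbEt X ⥤ Sheaf (topSpQC X) AddCommGrpCat.{u + 1} :=
  (inclSpQC X).sheafPushforwardContinuous AddCommGrpCat.{u + 1} (topSpQC X) (AlgSp.etTop X)

/-- Over affine objects the sections of an injective resolution of a quasi-coherent module are exact. -/
theorem exists_section_lift {M : AlgSp.ModEt X} (hM : QC M)
    (R : InjectiveResolution ((AlgSp.toAbEt X).obj M)) {E : AlgSp.EtOver X} (hE : Aff X E) (n : ℕ)
    (s : (R.cocomplex.X (n + 1)).obj.obj (op E)) (hs : (R.cocomplex.d (n + 1) (n + 2)).hom.app (op E) s = 0) :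
    ∃ t : (R.cocomplex.X n).obj.obj (op E), (R.cocomplex.d n (n + 1)).hom.app (op E) t = s := by
  haveI : (resQC X).IsEquivalence := inferInstance
  haveI : PreservesBinaryBiproducts (resQC X) := preservesBinaryBiproducts_of_preservesBinaryProducts _
  haveI : (resQC X).Additive := Functor.additive_of_preservesBinaryBiproducts _
  exact exists_section_of_HU (resQC X) R n (affQC E hE)
    (subsingleton_HU hM ((resQC X).obj ((AlgSp.toAbEt X).obj M)) rfl n (U := affQC E hE) hE) s hs

/-- Affine open subschemes cover. -/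
theorem affine_mem {U : AlgSp.EtOver X} {T : Sieve U}
    (h : ∀ (V : AlgSp.EtOver X) (g : V ⟶ U), Aff X V → T g) : T ∈ AlgSp.etTop X U := by
  refine GrothendieckTopology.superset_covering _ (S := Sieve.ofArrows
    (fun O : U.obj.left.left.affineOpens => openObj U O.1) (fun O => openObjHom U O.1))
    ((Sieve.generate_le_iff _ _).2 ?_) (AlgSp.ofArrows_mem_etTop _ _ fun x => ?_)
  · rintro _ _ ⟨O⟩
    exact h _ _ (aff_openObj U O.2)
  · obtain ⟨O, hO, hxO, -⟩ := exists_isAffineOpen_mem_and_subset (X := U.obj.left.left) (U := ⊤) (x := x) trivial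
    exact ⟨⟨O, hO⟩, ⟨x, hxO⟩, rfl⟩

/-- An affine scheme has no higher cohomology for quasi-coherent modules. -/
theorem subsingleton_H_affine {M : AlgSp.ModEt X} (hM : QC M) {E : AlgSp.EtOver X} (hT : IsTerminal E)
    (hE : Aff X E) (n : ℕ) : Subsingleton (AlgSp.HModEt X M (n + 1)) := by
  refine ⟨fun a b => ?_⟩
  suffices ∀ x : AlgSp.HModEt X M (n + 1), x = 0 from (this a).trans (this b).symm
  intro x
  let R := injectiveResolution ((AlgSp.toAbEt X).obj M)
  obtain ⟨φ, hφ, rfl⟩ := R.extMk_surjective x (n + 2) rfl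
  let adj := constantSheafAdj (AlgSp.etTop X) AddCommGrpCat.{u + 1} hT
  let s : (R.cocomplex.X (n + 1)).obj.obj (op E) := adj.homEquiv _ _ φ (ULift.up 1)
  have hs : (R.cocomplex.d (n + 1) (n + 2)).hom.app (op E) s = 0 := by
    have h := adj.homEquiv_naturality_right φ (R.cocomplex.d (n + 1) (n + 2))
    rw [hφ] at h
    have h2 := ConcreteCategory.congr_hom h (ULift.up 1)
    rw [show adj.homEquiv _ _ (0 : _ ⟶ R.cocomplex.X (n + 2)) = 0 from map_zero (adj.homAddEquiv _ _)] at h2
    exact h2.symm
  obtain ⟨t, ht⟩ := exists_section_lift hM R hE n s hs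
  refine (R.extMk_eq_zero_iff φ (n + 2) rfl hφ n rfl).2
    ⟨(adj.homEquiv _ _).symm (AddCommGrpCat.ofHom ((zmultiplesHom _ t).comp AddEquiv.ulift.toAddMonoidHom)),
      (adj.homEquiv _ _).injective ?_⟩
  rw [adj.homEquiv_naturality_right, Equiv.apply_symm_apply]
  refine AddCommGrpCat.hom_ext (AddMonoidHom.ext fun ⟨z⟩ => ?_)
  have hz : (ULift.up z : ULift.{u + 1} ℤ) = z • ULift.up 1 := by ext; simp
  show (R.cocomplex.d n (n + 1)).hom.app (op E) (z • t) = adj.homEquiv _ _ φ (ULift.up z)
  rw [map_zsmul, ht, hz, map_zsmul]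

end Groth.Agent.AlgSpVan

end
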