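import Groth.Agent.AlgSpVan.Cech
import Groth.Agent.CohColim.AlgSpQC
import Groth.Agent.SiteBase.FamilyCartan
import Groth.Agent.AlgSpFT.Geom

/-! Cartan's criterion for quasi-coherent modules on the small étale site. -/

set_option autoImplicit false
set_option linter.style.haveILetI false
set_option linter.unusedSectionVars false
set_option backward.isDefEq.respectTransparency false
set_option backward.isDefEq.respectTransparency.types false
set_option maxHeartbeats 800000

universe u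

open CategoryTheory Limits AlgebraicGeometry Opposite Simplicial
open Groth.Agent.AlgSpQC Groth.Agent.AlgSpFT Groth.Agent.CohColim

noncomputable section

namespace Groth.Agent.AlgSpVan

section General

variable {C : Type u} [SmallCategory C] [HasPullbacks C] {J : GrothendieckTopology C} {U : C} {ι : Type u}
  (Y : ι → Over U) (F : Sheaf J AddCommGrpCat.{u})

/-- The products of the Čech complex. -/
abbrev prd {n : ℕ} (a : Fin (n + 1) → ι) : Over U := ∏ᶜ fun k => Y (a k)

/-- The faces. -/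
abbrev prdFace {n : ℕ} (a : Fin (n + 2) → ι) (i : Fin (n + 2)) : prd Y a ⟶ prd Y (a ∘ i.succAbove) :=
  Pi.lift fun k => Pi.π (fun k => Y (a k)) (i.succAbove k)

/-- The Čech differential in elements. -/
def cechD {n : ℕ} (x : ∀ a : Fin (n + 1) → ι, F.obj.obj (op (prd Y a).left)) (a : Fin (n + 2) → ι) :
    F.obj.obj (op (prd Y a).left) :=
  ∑ i : Fin (n + 2), (-1 : ℤ) ^ (i : ℕ) • F.obj.map (prdFace Y a i).left.op (x (a ∘ i.succAbove))

theorem famProj_d (n : ℕ) (x : (SiteBase.famCx Y F).X n) (a : Fin (n + 2) → ι) :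
    SiteBase.famProj Y F (n + 1) a ((SiteBase.famCx Y F).d n (n + 1) x) =
      cechD Y F (fun b => SiteBase.famProj Y F n b x) a := by
  obtain ⟨φ, rfl⟩ := (SiteBase.famHom_bijective Y F n).2 x
  rw [SiteBase.famHom_d, SiteBase.famProj_famHom, AlgebraicTopology.AlternatingFaceMapComplex.obj_d_eq,
    Preadditive.sum_comp, map_sum, Finset.sum_apply]
  refine Finset.sum_congr rfl fun j _ => ?_
  rw [Preadditive.zsmul_comp, map_zsmul, Pi.smul_apply]
  refine congrArg _ ((SiteBase.fcEval_map ((FormalCoproduct.mk ι Y).cech.map (SimplexCategory.δ j).op) φ a).trans ?_)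
  exact congrArg (F.obj.map (prdFace Y a j).left.op) (SiteBase.famProj_famHom Y F n φ _).symm

theorem cech_isZero (n : ℕ)
    (h : ∀ x : (∀ a : Fin (n + 2) → ι, F.obj.obj (op (prd Y a).left)), (∀ b, cechD Y F x b = 0) →
      ∃ y : (∀ a : Fin (n + 1) → ι, F.obj.obj (op (prd Y a).left)), ∀ a, cechD Y F y a = x a) :
    IsZero (CohCx.cechH F.obj Y (n + 1)) := by
  show IsZero ((SiteBase.famCx Y F).homology (n + 1))
  rw [← HomologicalComplex.exactAt_iff_isZero_homology,
    (SiteBase.famCx Y F).exactAt_iff' n (n + 1) (n + 2) (by simp) (by simp), ShortComplex.ab_exact_iff]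
  intro x hx
  obtain ⟨y, hy⟩ := h (fun a => SiteBase.famProj Y F (n + 1) a x) fun b => by
    rw [← famProj_d]
    exact (congrArg (SiteBase.famProj Y F (n + 2) b) hx).trans (map_zero (SiteBase.famProj Y F (n + 2) b).hom)
  obtain ⟨φ, hφ⟩ := SiteBase.fcEval_surjective (SiteBase.famObj Y n) F y
  refine ⟨SiteBase.famHom Y F n φ, SiteBase.famCx_ext Y F (n + 1) fun a => ?_⟩
  show SiteBase.famProj Y F (n + 1) a ((SiteBase.famCx Y F).d n (n + 1) (SiteBase.famHom Y F n φ)) = _
  rw [famProj_d]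
  refine Eq.trans ?_ (hy a)
  refine congrArg (cechD Y F · a) (funext fun b => ?_)
  exact (SiteBase.famProj_famHom Y F n φ b).trans (congrFun hφ b)

end General

variable {S : Scheme.{u}} {X : AlgSp.Sp S}

/-- An affine object in the small subsite. -/
def affQC (E : AlgSp.EtOver X) (hE : Aff X E) : EtSpQC X :=
  ULiftHom.objUp ⟨E, haveI : IsAffine E.obj.left.left := hE; ⟨inferInstance, inferInstance⟩⟩

/-- Affine objects of the small subsite. -/
def affSet : Set (EtSpQC X) := {E | Aff X ((inclSpQC X).obj E)}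

theorem exists_hom {A B : EtSpQC X} (g : (inclSpQC X).obj A ⟶ (inclSpQC X).obj B) :
    ∃ g' : A ⟶ B, (inclSpQC X).map g' = g := (inclSpQC X).map_surjective g

theorem exists_affine_refinement {U : EtSpQC X} (hU : U ∈ affSet) {T : Sieve U} (hT : T ∈ topSpQC X U) :
    ∃ (ι : Type (u + 1)) (_ : Finite ι) (Y : ι → Over U), (∀ i, (Y i).left ∈ affSet) ∧
      (∀ i, T.arrows (Y i).hom) ∧ Sieve.ofArrows (fun i => (Y i).left) (fun i => (Y i).hom) ∈ topSpQC X U := by
  rw [Functor.mem_restrictedTopology_iff] at hT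
  have h : ∀ w : ((inclSpQC X).obj U).obj.left.left, ∃ (V : EtSpQC X) (g : V ⟶ U),
      T g ∧ V ∈ affSet ∧ w ∈ Set.range ((inclSpQC X).map g).hom.left.left := by
    intro w
    obtain ⟨Z, g, ⟨V, a, b, ha, rfl⟩, y, rfl⟩ := exists_mem_of_coveringSp X hT w
    obtain ⟨O, hO, hyO, -⟩ := exists_isAffineOpen_mem_and_subset (X := ((inclSpQC X).obj V).obj.left.left) (U := ⊤)
      (x := b.hom.left.left y) trivial
    obtain ⟨c, hc⟩ := exists_hom (A := affQC _ (aff_openObj _ hO)) (openObjHom ((inclSpQC X).obj V) O)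
    refine ⟨_, c ≫ a, T.downward_closed ha c, aff_openObj _ hO, ⟨b.hom.left.left y, hyO⟩, ?_⟩
    rw [(inclSpQC X).map_comp, hc]
    rfl
  choose V g hg hA hw using h
  haveI : CompactSpace ((inclSpQC X).obj U).obj.left.left := compactSpace_aff hU
  obtain ⟨t, ht⟩ := isCompact_univ.elim_finite_subcover
    (fun w => Set.range ((inclSpQC X).map (g w)).hom.left.left)
    (fun w => haveI := AlgSp.EtOver.etale_left ((inclSpQC X).map (g w))
      ((inclSpQC X).map (g w)).hom.left.left.isOpenMap.isOpen_range)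
    (fun w _ => Set.mem_iUnion.2 ⟨w, hw w⟩)
  refine ⟨ULift.{u + 1} (Fin t.card), inferInstance, fun k => Over.mk (g (t.equivFin.symm k.down)),
    fun k => hA _, fun k => hg _, ?_⟩
  rw [Functor.mem_restrictedTopology_iff]
  refine GrothendieckTopology.superset_covering _ (S := Sieve.ofArrows _
    (fun k : ULift.{u + 1} (Fin t.card) => (inclSpQC X).map (g (t.equivFin.symm k.down)))) ((Sieve.generate_le_iff _ _).2 ?_) ?_
  · rintro _ _ ⟨k⟩
    exact ⟨_, g (t.equivFin.symm k.down), 𝟙 _, Sieve.ofArrows_mk _ (fun k : ULift.{u + 1} (Fin t.card) => g (t.equivFin.symm k.down)) k, (Category.id_comp _).symm⟩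
  · refine AlgSp.ofArrows_mem_etTop _ _ fun y => ?_
    obtain ⟨w, hwt, hy⟩ := Set.mem_iUnion₂.1 (ht (Set.mem_univ y))
    exact ⟨⟨t.equivFin ⟨w, hwt⟩⟩, by rw [Equiv.symm_apply_apply]; exact hy⟩

theorem surjective_of_cover {U : EtSpQC X} {ι : Type (u + 1)} {Y : ι → Over U}
    (hY : Sieve.ofArrows (fun i => (Y i).left) (fun i => (Y i).hom) ∈ topSpQC X U)
    (w : ((inclSpQC X).obj U).obj.left.left) :
    ∃ (i : ι) (z : ((inclSpQC X).obj (Y i).left).obj.left.left), ((inclSpQC X).map (Y i).hom).hom.left.left z = w := by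
  rw [Functor.mem_restrictedTopology_iff] at hY
  obtain ⟨Z, g, ⟨V, a, b, ha, rfl⟩, y, rfl⟩ := exists_mem_of_coveringSp X hY w
  obtain ⟨i, c, rfl⟩ := Sieve.ofArrows.exists ha
  refine ⟨i, ((inclSpQC X).map c).hom.left.left (b.hom.left.left y), ?_⟩
  rw [(inclSpQC X).map_comp]
  rfl

/-- Iterated fibre products over affines of affines are affine. -/
theorem exists_affine_tuple {U : AlgSp.EtOver X} (hU : Aff X U) {κ : Type (u + 1)} {Z : κ → AlgSp.EtOver X}
    (f : ∀ i, Z i ⟶ U) (hZ : ∀ i, Aff X (Z i)) :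
    ∀ (n : ℕ) (a : Fin (n + 1) → κ), ∃ (W : AlgSp.EtOver X) (u : W ⟶ U) (π : ∀ k, W ⟶ Z (a k)), Aff X W ∧
      (∀ k, π k ≫ f (a k) = u) ∧ (∀ (T : AlgSp.EtOver X) (v : T ⟶ U) (e : ∀ k, T ⟶ Z (a k)),
        (∀ k, e k ≫ f (a k) = v) → ∃! l : T ⟶ W, ∀ k, l ≫ π k = e k) := by
  intro n
  induction n with
  | zero =>
    intro a
    refine ⟨Z (a 0), f (a 0), fun k => eqToHom (by rw [Fin.fin_one_eq_zero k]), hZ _, fun k => ?_, fun T v e _ => ?_⟩
    · obtain rfl : k = 0 := Fin.fin_one_eq_zero k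
      exact Category.id_comp _
    · refine ⟨e 0, fun k => ?_, fun l hl => ?_⟩
      · obtain rfl : k = 0 := Fin.fin_one_eq_zero k
        exact Category.comp_id _
      · exact (Category.comp_id l).symm.trans (hl 0)
  | succ n ih =>
    intro a
    obtain ⟨W, u, π, hW, hπ, hun⟩ := ih fun k => a k.succ
    obtain ⟨P, h, k₀, hP, e₀, hpb, -⟩ := (affSite X).exists_fibre u (f (a 0)) hU hW (hZ _)
    refine ⟨P, h ≫ u, Fin.cases k₀ (fun k => h ≫ π k), hP, fun k => ?_, fun T v e he => ?_⟩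
    · refine Fin.cases e₀.symm (fun k => ?_) k
      show (h ≫ π k) ≫ f (a k.succ) = h ≫ u
      rw [Category.assoc, hπ]
    · obtain ⟨l, hl, hl'⟩ := hun T v (fun k => e k.succ) fun k => he _
      have hlu : l ≫ u = v := by
        rw [← hπ 0, ← Category.assoc, hl 0]
        exact he _
      refine ⟨hpb.lift l (e 0) (hlu.trans (he 0).symm), fun k => ?_, fun m hm => ?_⟩
      · refine Fin.cases (hpb.lift_snd _ _ _) (fun k => ?_) k
        show hpb.lift l (e 0) _ ≫ h ≫ π k = e k.succ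
        rw [← Category.assoc, hpb.lift_fst, hl k]
      · refine hpb.hom_ext ?_ ?_
        · rw [hpb.lift_fst]
          exact hl' (m ≫ h) fun k => (Category.assoc _ _ _).trans (hm k.succ)
        · rw [hpb.lift_snd]
          exact hm 0

theorem aff_prd {U : EtSpQC X} (hU : U ∈ affSet) {ι : Type (u + 1)} (Y : ι → Over U)
    (hY : ∀ i, (Y i).left ∈ affSet) {n : ℕ} (a : Fin (n + 1) → ι) : (prd Y a).left ∈ affSet := by
  obtain ⟨W, u, π, hW, hπ, hun⟩ := exists_affine_tuple hU (fun i => (inclSpQC X).map (Y i).hom) hY n a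
  obtain ⟨u', hu'⟩ := exists_hom (A := affQC W hW) u
  have hπ' : ∀ k, ∃ p : Over.mk u' ⟶ Y (a k), (inclSpQC X).map p.left = π k := fun k => by
    obtain ⟨p, hp⟩ := exists_hom (A := affQC W hW) (π k)
    refine ⟨Over.homMk p ((inclSpQC X).map_injective ?_), hp⟩
    rw [(inclSpQC X).map_comp, hp, hπ k]
    exact hu'.symm
  choose p hp using hπ'
  obtain ⟨l, hl, -⟩ := hun ((inclSpQC X).obj (prd Y a).left) ((inclSpQC X).map (prd Y a).hom)
    (fun k => (inclSpQC X).map (Pi.π (fun k => Y (a k)) k).left) fun k => by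
      rw [← (inclSpQC X).map_comp, Over.w]
  have h1 : l ≫ (inclSpQC X).map (Pi.lift p).left = 𝟙 _ := by
    obtain ⟨l', rfl⟩ := exists_hom (B := affQC W hW) l
    have hl'' : l' ≫ u' = (prd Y a).hom := (inclSpQC X).map_injective (by
      rw [(inclSpQC X).map_comp, hu', ← hπ 0, ← Category.assoc, hl 0, ← (inclSpQC X).map_comp, Over.w])
    have h2 : (Over.homMk l' hl'' : prd Y a ⟶ Over.mk u') ≫ Pi.lift p = 𝟙 _ := Limits.Pi.hom_ext _ _ fun k => by
      rw [Category.assoc, Pi.lift_π, Category.id_comp]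
      refine Over.OverMorphism.ext ((inclSpQC X).map_injective ?_)
      rw [Over.comp_left, (inclSpQC X).map_comp, hp]
      exact hl k
    rw [← (inclSpQC X).map_comp, ← (inclSpQC X).map_id]
    exact congrArg (fun q => (inclSpQC X).map (CommaMorphism.left q)) h2
  have h2 : (inclSpQC X).map (Pi.lift p).left ≫ l = 𝟙 _ := by
    obtain ⟨l₁, -, hl₁⟩ := hun W u π hπ
    refine (hl₁ _ fun k => ?_).trans (hl₁ _ fun k => Category.id_comp _).symm
    rw [Category.assoc, hl k, ← (inclSpQC X).map_comp, ← Over.comp_left, Pi.lift_π]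
    exact hp k
  haveI : IsAffine W.obj.left.left := hW
  let e : ((inclSpQC X).obj (prd Y a).left).obj.left.left ≅ W.obj.left.left :=
    (AlgSp.EtOver.toScheme X).mapIso ⟨l, (inclSpQC X).map (Pi.lift p).left, h1, h2⟩
  exact IsAffine.of_isIso e.hom

/-- The fibre products of the site as tuples. -/
def prdTup {U : EtSpQC X} (hU : U ∈ affSet) {ι : Type (u + 1)} (Y : ι → Over U) (hY : ∀ i, (Y i).left ∈ affSet) :
    Tup ((inclSpQC X).obj U) (fun i => (inclSpQC X).obj (Y i).left) (fun i => (inclSpQC X).map (Y i).hom) where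
  P {n} a := (inclSpQC X).obj (prd Y a).left
  aff {n} a := aff_prd hU Y hY a
  pr {n} a k := (inclSpQC X).map (Pi.π (fun k => Y (a k)) k).left
  base {n} a := (inclSpQC X).map (prd Y a).hom
  comm {n} a k := by rw [← (inclSpQC X).map_comp, Over.w]
  hom_ext {n} a {T} hT g g' h := by
    obtain ⟨g, rfl⟩ := exists_hom (A := affQC T hT) g
    obtain ⟨g', rfl⟩ := exists_hom (A := affQC T hT) g'
    have e : ∀ k, g ≫ (Pi.π (fun k => Y (a k)) k).left = g' ≫ (Pi.π (fun k => Y (a k)) k).left := fun k =>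
      (inclSpQC X).map_injective (by rw [(inclSpQC X).map_comp, (inclSpQC X).map_comp]; exact h k)
    have hu : g' ≫ (prd Y a).hom = g ≫ (prd Y a).hom := by
      rw [← Over.w (Pi.π (fun k => Y (a k)) 0), ← Category.assoc, ← Category.assoc, e 0]
    have h3 : (Over.homMk g rfl : Over.mk (g ≫ (prd Y a).hom) ⟶ prd Y a) = Over.homMk g' hu :=
      Limits.Pi.hom_ext _ _ fun k => Over.OverMorphism.ext (e k)
    exact congrArg (fun q => (inclSpQC X).map (CommaMorphism.left q)) h3
  exists_lift {n} a {T} hT u e h := by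
    obtain ⟨u, rfl⟩ := exists_hom (A := affQC T hT) u
    choose e' he' using fun k => exists_hom (A := affQC T hT) (e k)
    let q : ∀ k, Over.mk u ⟶ Y (a k) := fun k => Over.homMk (e' k) ((inclSpQC X).map_injective (by
      rw [(inclSpQC X).map_comp, he']
      exact h k))
    refine ⟨(inclSpQC X).map (Pi.lift q).left, fun k => ?_⟩
    rw [← (inclSpQC X).map_comp, ← Over.comp_left, Pi.lift_π]
    exact he' k

theorem prdTup_face {U : EtSpQC X} (hU : U ∈ affSet) {ι : Type (u + 1)} (Y : ι → Over U)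
    (hY : ∀ i, (Y i).left ∈ affSet) {n : ℕ} (a : Fin (n + 2) → ι) (i : Fin (n + 2)) :
    (prdTup hU Y hY).face a i = (inclSpQC X).map (prdFace Y a i).left := by
  refine (prdTup hU Y hY).hom_ext _ ((prdTup hU Y hY).aff a) _ _ fun k => ?_
  rw [Tup.face_pr]
  show (inclSpQC X).map _ = (inclSpQC X).map _ ≫ (inclSpQC X).map _
  rw [← (inclSpQC X).map_comp, ← Over.comp_left, Pi.lift_π]

/-- Sheaves on the subsite which are restrictions of quasi-coherent modules have no Čech cohomology. -/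
theorem isZero_cechH {M : AlgSp.ModEt X} (hM : QC M) (F : Sheaf (topSpQC X) AddCommGrpCat.{u + 1})
    (hF : F.obj = (inclSpQC X).op ⋙ M.val.presheaf) {U : EtSpQC X} (hU : U ∈ affSet) {ι : Type (u + 1)} [Finite ι]
    (Y : ι → Over U) (hY : ∀ i, (Y i).left ∈ affSet)
    (hcov : Sieve.ofArrows (fun i => (Y i).left) (fun i => (Y i).hom) ∈ topSpQC X U) (p : ℕ) :
    IsZero (CohCx.cechH F.obj Y (p + 1)) := by
  refine cech_isZero Y F p ?_
  unfold cechD
  rw [hF]
  intro x hx
  let D := prdTup hU Y hY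
  have hd : ∀ (l : ℕ) (z : ∀ a : Fin (l + 1) → ι, Sec M (D.P a)) (a : Fin (l + 2) → ι),
      D.d z a = ∑ i : Fin (l + 2), (-1 : ℤ) ^ (i : ℕ) • resS M ((inclSpQC X).map (prdFace Y a i).left) (z (a ∘ i.succAbove)) :=
    fun l z a => Finset.sum_congr rfl fun i _ =>
      congrArg (fun g => (-1 : ℤ) ^ (i : ℕ) • resS M g (z (a ∘ i.succAbove))) (prdTup_face hU Y hY a i)
  obtain ⟨y, hy⟩ := cech_exact D hM hU hY (surjective_of_cover hcov) (fun a => x a) fun a => (hd _ _ a).trans (hx a)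
  exact ⟨fun a => y a, fun a => (hd _ y a).symm.trans (hy a)⟩

/-- Higher cohomology over affine objects of the subsite vanishes. -/
theorem subsingleton_HU {M : AlgSp.ModEt X} (hM : QC M) (F : Sheaf (topSpQC X) AddCommGrpCat.{u + 1})
    (hF : F.obj = (inclSpQC X).op ⋙ M.val.presheaf) (p : ℕ) {U : EtSpQC X} (hU : U ∈ affSet) :
    Subsingleton (CohSite.HU F (p + 1) U) := by
  refine SiteBase.subsingleton_HU_cartan affSet
    (fun U ι Y => U ∈ affSet ∧ Finite ι ∧ (∀ i, (Y i).left ∈ affSet) ∧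
      Sieve.ofArrows (fun i => (Y i).left) (fun i => (Y i).hom) ∈ topSpQC X U)
    (fun U ι Y h => ⟨h.1, h.2.2.2, fun p a => aff_prd h.1 Y h.2.2.1 a⟩) (fun U hU T hT => ?_) F
    (fun U ι Y h p => ?_) p U hU
  · obtain ⟨ι, hfin, Y, hY, hT', hcov⟩ := exists_affine_refinement hU hT
    exact ⟨ι, Y, ⟨hU, hfin, hY, hcov⟩, hT'⟩
  · haveI := h.2.1
    exact isZero_cechH hM F hF h.1 Y h.2.2.1 h.2.2.2 p

end Groth.Agent.AlgSpVan

end
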